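import Cfsg.Agent.EqLemmas

/-!
Isolated elements of prime-power order.

* `eq_of_normalizer_le`: self-normalizing subgroups of `p`-groups are everything.
* `commute_of_mem_pGroup`: an isolated element is central in every `p`-subgroup containing it.
* `normalizer_le_centralizer`: `N(R) ≤ C(x)` for a `p`-subgroup `R` containing isolated `x`.
* `exists_conj_eq_of_mem`: a conjugate of `x` in a subgroup `N ∋ x` is conjugate to `x` inside `N`.
* `conj_zpow_eq`: a conjugate of a power of `x` commuting with `x` equals that power.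
-/

namespace Cfsg.Agent.Isolated

variable {G : Type*} [Group G]

/-- If `D ≤ P`, `P` a finite `p`-group, and `N_P(D) ≤ D`, then `D = P`. -/
theorem eq_of_normalizer_le {p : ℕ} [Fact p.Prime] [Finite G] {P D : Subgroup G} (hP : IsPGroup p P)
    (hDP : D ≤ P) (h : ∀ g ∈ P, g ∈ Subgroup.normalizer (D : Set G) → g ∈ D) : D = P := by
  refine le_antisymm hDP (Subgroup.subgroupOf_eq_top.mp ?_)
  have := hP.isNilpotent
  refine (normalizerCondition_iff_only_full_group_self_normalizing.mp
    Group.normalizerCondition_of_isNilpotent) _ ?_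
  refine le_antisymm (fun g hg => ?_) Subgroup.le_normalizer
  rw [Subgroup.mem_subgroupOf]
  refine h g g.2 ?_
  rw [Subgroup.mem_normalizer_iff]
  intro x
  constructor
  · intro hx
    have := (Subgroup.mem_normalizer_iff.mp hg ⟨x, hDP hx⟩).mp hx
    simpa [Subgroup.mem_subgroupOf] using this
  · intro hx
    have hxP : x ∈ P := by
      have := mul_mem (mul_mem (inv_mem g.2) (hDP hx)) g.2
      simpa [mul_assoc] using this
    exact (Subgroup.mem_normalizer_iff.mp hg ⟨x, hxP⟩).mpr hx

variable [Finite G] {p : ℕ} [Fact p.Prime] {x : G}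

/-- An isolated element is central in every `p`-subgroup containing it. -/
theorem commute_of_mem_pGroup (hiso : Cfsg.IsIsolated x) {R : Subgroup G} (hR : IsPGroup p R)
    (hxR : x ∈ R) : R ≤ Subgroup.centralizer ({x} : Set G) := by
  have hmem : ∀ g : G, g ∈ Subgroup.centralizer ({x} : Set G) ↔ g * x = x * g := fun g =>
    Subgroup.mem_centralizer_singleton_iff
  have : R ⊓ Subgroup.centralizer ({x} : Set G) = R := by
    refine eq_of_normalizer_le hR inf_le_left fun g hgR hg => ⟨hgR, ?_⟩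
    have hxD : x ∈ R ⊓ Subgroup.centralizer ({x} : Set G) := ⟨hxR, (hmem x).2 rfl⟩
    have h2 := ((Subgroup.mem_normalizer_iff.mp hg x).mp hxD).2
    have h3 := hiso g ((hmem _).1 h2).symm
    rw [mul_inv_eq_iff_eq_mul] at h3
    exact (hmem g).2 h3
  exact this ▸ inf_le_right

/-- The normalizer of a `p`-subgroup containing an isolated element centralises it. -/
theorem normalizer_le_centralizer (hiso : Cfsg.IsIsolated x) {R : Subgroup G} (hR : IsPGroup p R)
    (hxR : x ∈ R) : Subgroup.normalizer (R : Set G) ≤ Subgroup.centralizer ({x} : Set G) := by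
  intro g hg
  have h1 : g * x * g⁻¹ ∈ R := (Subgroup.mem_normalizer_iff.mp hg x).mp hxR
  have h2 : (g * x * g⁻¹) * x = x * (g * x * g⁻¹) :=
    Subgroup.mem_centralizer_singleton_iff.mp (commute_of_mem_pGroup hiso hR hxR h1)
  have h3 := hiso g h2.symm
  rw [mul_inv_eq_iff_eq_mul] at h3
  exact Subgroup.mem_centralizer_singleton_iff.mpr h3

omit [Fact p.Prime] [Finite G] in
theorem isPGroup_zpowers {k : ℕ} (hk : orderOf x = p ^ k) : IsPGroup p (Subgroup.zpowers x) :=
  IsPGroup.of_card (by rw [Nat.card_zpowers, hk])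

/-- A conjugate of an isolated `p`-element inside a subgroup containing it is conjugate to it there. -/
theorem exists_conj_eq_of_mem (hx : ∃ k : ℕ, orderOf x = p ^ k) (hiso : Cfsg.IsIsolated x)
    {N : Subgroup G} (hxN : x ∈ N) {g : G} (hgN : g * x * g⁻¹ ∈ N) :
    ∃ n ∈ N, n * (g * x * g⁻¹) * n⁻¹ = x := by
  obtain ⟨k, hk⟩ := hx
  have hk' : orderOf (g * x * g⁻¹) = p ^ k := by
    rw [← MulAut.conj_apply, MulEquiv.orderOf_eq, hk]
  obtain ⟨P, hP⟩ := (isPGroup_zpowers (x := (⟨x, hxN⟩ : N))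
    (by rw [← Subgroup.orderOf_coe]; exact hk)).exists_le_sylow
  obtain ⟨P', hP'⟩ := (isPGroup_zpowers (x := (⟨g * x * g⁻¹, hgN⟩ : N))
    (by rw [← Subgroup.orderOf_coe]; exact hk')).exists_le_sylow
  obtain ⟨n, hn⟩ := MulAction.exists_smul_eq N P' P
  refine ⟨n, n.2, ?_⟩
  let R : Subgroup G := (P : Subgroup N).map N.subtype
  have hR : IsPGroup p R := P.isPGroup'.map _
  have hxR : x ∈ R := ⟨⟨x, hxN⟩, hP (Subgroup.mem_zpowers _), rfl⟩
  have hyR : (n : G) * (g * x * g⁻¹) * (n : G)⁻¹ ∈ R := by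
    refine ⟨n * ⟨g * x * g⁻¹, hgN⟩ * n⁻¹, ?_, rfl⟩
    rw [← hn, Sylow.coe_subgroup_smul]
    exact ⟨_, hP' (Subgroup.mem_zpowers _), rfl⟩
  have h2 := Subgroup.mem_centralizer_singleton_iff.mp (commute_of_mem_pGroup hiso hR hxR hyR)
  have heq : (n : G) * (g * x * g⁻¹) * (n : G)⁻¹ = (↑n * g) * x * (↑n * g)⁻¹ := by group
  rw [heq] at h2 ⊢
  exact hiso _ h2.symm

/-- A conjugate of a power of an isolated `p`-element which commutes with it equals that power. -/
theorem conj_zpow_eq (hx : ∃ k : ℕ, orderOf x = p ^ k) (hiso : Cfsg.IsIsolated x) (i : ℤ) (g : G)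
    (h : Commute x (g * x ^ i * g⁻¹)) : g * x ^ i * g⁻¹ = x ^ i := by
  set y := g * x ^ i * g⁻¹ with hy
  have hxy : x ∈ Subgroup.centralizer ({y} : Set G) := Subgroup.mem_centralizer_singleton_iff.mpr h.eq
  have hgy : g * x * g⁻¹ ∈ Subgroup.centralizer ({y} : Set G) := by
    refine Subgroup.mem_centralizer_singleton_iff.mpr ?_
    have hc : Commute x (x ^ i) := Commute.self_zpow x i
    have : Commute (MulAut.conj g x) (MulAut.conj g (x ^ i)) := hc.map (MulAut.conj g)
    simpa [hy, MulAut.conj_apply] using this.eq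
  obtain ⟨n, hn, hnx⟩ := exists_conj_eq_of_mem hx hiso hxy hgy
  have h1 : n * y = y * n := Subgroup.mem_centralizer_singleton_iff.mp hn
  have h2 : x ^ i = n * y * n⁻¹ := by
    conv_lhs => rw [← hnx]
    rw [conj_zpow, conj_zpow]
  rw [h2, h1, mul_inv_cancel_right]

end Cfsg.Agent.Isolated
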