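import Cfsg.Agent.Lib.PGroup.Basic
import Cfsg.Agent.Lib.PGroup.Power

/-!
* `isCyclic_of_unique`: for odd `p`, a `p`-group with only one subgroup of order `p` is cyclic.
* `isCyclic_of_rank_le_one`: for odd `p`, a `p`-subgroup of a group of `p`-rank at most one is cyclic.
-/

set_option autoImplicit false

namespace Cfsg.Agent.Isolated

open scoped commutatorElement

universe u

theorem prime_dvd_card {p : ℕ} [Fact p.Prime] {A : Type*} [Group A] [Finite A] [Nontrivial A]
    (h : IsPGroup p A) : p ∣ Nat.card A := by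
  obtain ⟨n, hn, hc⟩ := h.nontrivial_iff_card.mp inferInstance
  exact hc ▸ dvd_pow_self p hn.ne'

theorem isCyclic_of_unique {p : ℕ} [hp : Fact p.Prime] (hp2 : p ≠ 2) :
    ∀ (n : ℕ) (P : Type u) [Group P] [Finite P], IsPGroup p P → Nat.card P ≤ n →
      (∀ x y : P, x ≠ 1 → x ^ p = 1 → y ^ p = 1 → y ∈ Subgroup.zpowers x) → IsCyclic P := by
  intro n
  induction n with
  | zero => intro P _ _ _ hn; exact absurd hn (Nat.not_le.mpr Nat.card_pos)
  | succ n ih =>
    intro P _ _ hP hn hU
    rcases subsingleton_or_nontrivial P with h | h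
    · exact isCyclic_of_subsingleton
    have hsub : ∀ H : Subgroup P, H ≠ ⊤ → IsCyclic H := by
      intro H hH
      have hlt : Nat.card H < Nat.card P := lt_of_le_of_ne (Subgroup.card_le_card_group H)
        fun he => hH (Subgroup.eq_top_of_card_eq H he)
      refine ih H (hP.to_subgroup H) (by omega) fun x y hx hxp hyp => ?_
      have h1 := hU (x : P) y (by simpa using hx) (by simpa using congrArg Subtype.val hxp)
        (by simpa using congrArg Subtype.val hyp)
      obtain ⟨i, hi⟩ := Subgroup.mem_zpowers_iff.mp h1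
      exact Subgroup.mem_zpowers_iff.mpr ⟨i, Subtype.ext (by simpa using hi)⟩
    obtain ⟨M, hM⟩ := (eq_top_or_exists_le_coatom (⊥ : Subgroup P)).resolve_left bot_ne_top
    obtain ⟨hM, -⟩ := hM
    haveI := PGroup.isCoatom_normal hP hM
    obtain ⟨x, -, hxM⟩ := SetLike.exists_of_lt hM.1.lt_top
    rcases eq_or_ne M ⊥ with hMb | hMb
    · have hpow : ∀ y : P, y ^ p = 1 := fun y => by
        simpa [hMb] using PGroup.pow_mem_of_isCoatom hP hM y
      have hx1 : x ≠ 1 := fun h => hxM (h ▸ one_mem M)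
      exact ⟨⟨x, fun y => Subgroup.mem_zpowers_iff.mp (hU x y hx1 (hpow x) (hpow y))⟩⟩
    obtain ⟨⟨a, haM⟩, ha⟩ := (hsub M hM.1).exists_generator
    have hgen : ∀ y ∈ M, ∃ i : ℤ, a ^ i = y := by
      intro y hy
      obtain ⟨i, hi⟩ := Subgroup.mem_zpowers_iff.mp (ha ⟨y, hy⟩)
      exact ⟨i, by simpa using congrArg Subtype.val hi⟩
    obtain ⟨i, hi⟩ := hgen _ (PGroup.pow_mem_of_isCoatom hP hM x)
    by_cases hpi : (p : ℤ) ∣ i
    swap
    · have hMx : M ≤ Subgroup.zpowers x := by
        intro y hy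
        obtain ⟨j, rfl⟩ := hgen y hy
        refine Subgroup.zpow_mem _ ?_ j
        obtain ⟨k, hk⟩ := hP a
        have hco : IsCoprime i ((p : ℤ) ^ k) :=
          ((Prime.coprime_iff_not_dvd (Nat.prime_iff_prime_int.mp hp.out)).mpr hpi).symm.pow_right
        obtain ⟨u, v, huv⟩ := hco
        have hak : a ^ ((p : ℤ) ^ k) = 1 := by rw [← Nat.cast_pow, zpow_natCast]; exact hk
        have h1 : a = (x ^ p) ^ u := by
          rw [← hi, ← zpow_mul]
          conv_lhs => rw [← zpow_one a, ← huv, zpow_add, mul_comm v, zpow_mul a _ v, hak, one_zpow,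
            mul_one, mul_comm u]
        rw [h1]
        exact Subgroup.zpow_mem _ (Subgroup.pow_mem _ (Subgroup.mem_zpowers x) _) _
      have htop : Subgroup.zpowers x = ⊤ := by
        refine hM.2 _ (lt_of_le_of_ne hMx fun he => hxM ?_)
        rw [he]; exact Subgroup.mem_zpowers x
      exact ⟨⟨x, fun y => Subgroup.mem_zpowers_iff.mp (htop ▸ Subgroup.mem_top y)⟩⟩
    obtain ⟨j, rfl⟩ := hpi
    rcases eq_or_ne (Subgroup.zpowers x ⊔ Subgroup.zpowers (a ^ p)) ⊤ with hH | hH
    · refine PGroup.isCyclic_of_sup_frattini (x := x) (top_le_iff.mp (hH ▸ ?_))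
      exact sup_le_sup le_rfl (Subgroup.zpowers_le.mpr (PGroup.pow_mem_frattini hP a))
    have hxa : Commute x (a ^ p) := by
      haveI := hsub _ hH
      obtain ⟨g, hg⟩ := IsCyclic.exists_generator
        (α := ↥(Subgroup.zpowers x ⊔ Subgroup.zpowers (a ^ p)))
      obtain ⟨s, hs⟩ := Subgroup.mem_zpowers_iff.mp
        (hg ⟨x, Subgroup.mem_sup_left (Subgroup.mem_zpowers x)⟩)
      obtain ⟨t, ht⟩ := Subgroup.mem_zpowers_iff.mp
        (hg ⟨a ^ p, Subgroup.mem_sup_right (Subgroup.mem_zpowers _)⟩)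
      have h1 : (g : P) ^ s = x := by simpa using congrArg Subtype.val hs
      have h2 : (g : P) ^ t = a ^ p := by simpa using congrArg Subtype.val ht
      have h3 := Commute.zpow_zpow_self (g : P) s t
      rwa [h1, h2] at h3
    obtain ⟨z, hzc, -, hzo⟩ : ∃ z ∈ Subgroup.center P, z ∈ (⊤ : Subgroup P) ∧ orderOf z = p := by
      haveI := hP.center_nontrivial
      obtain ⟨z, hz⟩ := exists_prime_orderOf_dvd_card' (G := Subgroup.center P) p (prime_dvd_card (hP.to_subgroup _))
      exact ⟨z, z.2, trivial, by rwa [Subgroup.orderOf_coe]⟩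
    have hz1 : z ≠ 1 := fun h => hp.out.ne_one (by rw [← hzo, h, orderOf_one])
    have hzp : z ^ p = 1 := by rw [← hzo]; exact pow_orderOf_eq_one z
    have hcen : ∀ y : P, y ^ p = 1 → y ∈ Subgroup.center P := fun y hy =>
      (Subgroup.zpowers_le.mpr hzc) (hU z y hz1 hzp hy)
    set y := a ^ (-j) with hy
    have hcp : ⁅y, x⁆ ^ p = 1 := by
      have hc1 : Commute y (x * y⁻¹ * x⁻¹) := by
        obtain ⟨s, hs⟩ := hgen _
          (Subgroup.Normal.conj_mem inferInstance _ (inv_mem (zpow_mem haM (-j))) x)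
        rw [← hs, hy]
        exact Commute.zpow_zpow_self a _ _
      have hyp : y ^ p = (a ^ p) ^ (-j) := by
        rw [hy, ← zpow_natCast, ← zpow_mul, mul_comm, zpow_mul, zpow_natCast]
      have h1 : ⁅y, x⁆ = y * (x * y⁻¹ * x⁻¹) := by rw [commutatorElement_def]; group
      rw [h1, hc1.mul_pow, conj_pow, inv_pow, hyp, ← zpow_neg, (hxa.zpow_right _).eq,
        mul_inv_cancel_right, ← zpow_add]
      simp
    have hc := Subgroup.mem_center_iff.mp (hcen _ hcp)
    have hw : (x * y) ^ p = 1 := by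
      rw [PGroup.mul_pow_prime_eq hp.out hp2 (hc x) (hc y) hcp, ← hi, hy, ← zpow_natCast,
        ← zpow_mul, ← zpow_add]
      simp [mul_comm]
    have hzM : Subgroup.zpowers z ≤ M := by
      haveI : Nontrivial M := (Subgroup.nontrivial_iff_ne_bot M).mpr hMb
      obtain ⟨m, hm⟩ := exists_prime_orderOf_dvd_card' (G := M) p (prime_dvd_card (hP.to_subgroup _))
      have hm' : orderOf (m : P) = p := by rwa [Subgroup.orderOf_coe]
      refine Subgroup.zpowers_le.mpr ((Subgroup.zpowers_le.mpr m.2) (hU (m : P) z ?_ ?_ hzp))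
      · exact fun h => hp.out.ne_one (by rw [← hm', h, orderOf_one])
      · rw [← hm']; exact pow_orderOf_eq_one _
    refine absurd ?_ hxM
    have := mul_mem (hzM (hU z _ hz1 hzp hw)) (inv_mem (zpow_mem haM (-j)))
    simpa [hy] using this

/-- In a group of `p`-rank at most one, `p` odd, `p`-subgroups are cyclic. -/
theorem isCyclic_of_rank_le_one {G : Type u} [Group G] [Finite G] {p : ℕ} [hp : Fact p.Prime]
    (hp2 : p ≠ 2) (h : Cfsg.PRankLE p 1 G) (P : Subgroup G) (hP : IsPGroup p P) : IsCyclic P := by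
  refine isCyclic_of_unique hp2 _ P hP le_rfl ?_
  rcases subsingleton_or_nontrivial P with hs | hs
  · exact fun x y hx => absurd (Subsingleton.elim x 1) hx
  haveI := hP.center_nontrivial
  obtain ⟨z, hz⟩ :=
    exists_prime_orderOf_dvd_card' (G := Subgroup.center P) p (prime_dvd_card (hP.to_subgroup _))
  have hzo : orderOf ((z : P) : G) = p := by rwa [Subgroup.orderOf_coe, Subgroup.orderOf_coe]
  have key : ∀ y : P, y ^ p = 1 → y ∈ Subgroup.zpowers (z : P) := by
    intro y hy
    let A : Subgroup G := Subgroup.closure {((z : P) : G), (y : G)}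
    have hcomm : ∀ s ∈ ({((z : P) : G), (y : G)} : Set G), ∀ t ∈ ({((z : P) : G), (y : G)} : Set G),
        s * t = t * s := by
      have hzy : ((z : P) : G) * y = (y : G) * ((z : P) : G) :=
        congrArg Subtype.val ((Subgroup.mem_center_iff.mp z.2 y).symm)
      rintro s (rfl | rfl) t (rfl | rfl) <;> first | rfl | exact hzy | exact hzy.symm
    haveI hA : IsMulCommutative A := Subgroup.isMulCommutative_closure hcomm
    have hexp : ∀ s ∈ A, s ^ p = 1 := by
      intro s hs
      induction hs using Subgroup.closure_induction with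
      | mem s hs =>
        rcases hs with rfl | rfl
        · rw [← hzo]; exact pow_orderOf_eq_one _
        · simpa using congrArg Subtype.val hy
      | one => simp
      | mul s t hs ht ihs iht =>
        have hst : Commute s t := congrArg Subtype.val (hA.is_comm.comm ⟨s, hs⟩ ⟨t, ht⟩)
        rw [hst.mul_pow, ihs, iht, mul_one]
      | inv s _ ihs => rw [inv_pow, ihs, inv_one]
    have hle : Subgroup.zpowers ((z : P) : G) ≤ A :=
      Subgroup.zpowers_le.mpr (Subgroup.subset_closure (Set.mem_insert _ _))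
    have heq := Subgroup.eq_of_le_of_card_ge hle
      (by rw [Nat.card_zpowers, hzo]; simpa using h A hA hexp)
    have hyA : (y : G) ∈ Subgroup.zpowers ((z : P) : G) := by
      rw [heq]
      exact Subgroup.subset_closure (Set.mem_insert_of_mem _ rfl)
    obtain ⟨i, hi⟩ := Subgroup.mem_zpowers_iff.mp hyA
    exact Subgroup.mem_zpowers_iff.mpr ⟨i, Subtype.ext (by simpa using hi)⟩
  intro x y hx hxp hyp
  have hxo : orderOf x = p := orderOf_eq_prime hxp hx
  have heq := Subgroup.eq_of_le_of_card_ge (Subgroup.zpowers_le.mpr (key x hxp))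
    (by rw [Nat.card_zpowers, Nat.card_zpowers, hxo, Subgroup.orderOf_coe, hz])
  exact heq ▸ key y hyp

end Cfsg.Agent.Isolated
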