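import Cfsg.Agent.Lib.Isolated.Basic
import Cfsg.Agent.Lib.CharP.Basic
import Cfsg.Agent.Lib.Cores.Subnormal
import Cfsg.Agent.Lib.Cores.Fitting

/-!
The minimal counterexample to the `Z*_p` statement: `minimal_structure` says that the derived
group is simple, non-abelian, and together with `x` generates the group.
-/

set_option autoImplicit false

namespace Cfsg.Agent.Isolated

open scoped IsMulCommutative

/-- Minimal counterexample to `Z*_p`: structure of `G`. -/
theorem minimal_structure {G : Type*} [Group G] [Finite G] {p : ℕ} [Fact p.Prime] (x : G)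
    (hx : orderOf x = p) (hiso : Cfsg.IsIsolated x) (hnz : ¬ Cfsg.InZStar p x)
    (hmin : ∀ (H : Subgroup G) (hxH : x ∈ H), H ≠ ⊤ → Cfsg.InZStar p (⟨x, hxH⟩ : ↥H))
    (hquot : ∀ (N : Subgroup G) [N.Normal], N ≠ ⊥ →
      Cfsg.InZStar p (QuotientGroup.mk x : G ⧸ N)) :
    IsSimpleGroup ↥(commutator G) ∧ ¬ IsMulCommutative ↥(commutator G) ∧
      commutator G ⊔ Subgroup.zpowers x = ⊤ := by
  have hp : p.Prime := Fact.out
  have hcent : (∀ g : G, Commute g x) → False := fun h => hnz fun g => by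
    rw [(h g).eq, mul_inv_cancel_right, mul_inv_cancel]
    exact one_mem _
  have hO : Cfsg.pPrimeCore p G = ⊥ := by
    by_contra hne
    refine hnz fun g => ?_
    have h := hquot (Cfsg.pPrimeCore p G) hne (QuotientGroup.mk g)
    rw [Cfsg.Agent.Cores.pPrimeCore_quotient_self, Subgroup.mem_bot] at h
    exact (QuotientGroup.eq_one_iff _).mp h
  have hcore : ∀ M : Subgroup G, M.IsSubnormal → (Nat.card M).Coprime p → M = ⊥ := fun M hM hc =>
    le_bot_iff.mp (hO ▸ Cfsg.Agent.Cores.le_pPrimeCore_of_isSubnormal hM hc)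
  have habp : ∀ M : Subgroup G, M.IsSubnormal →
      (∀ a ∈ M, ∀ b ∈ M, Commute a b) → IsPGroup p M := by
    intro M hM hab
    refine Cfsg.Agent.CharP.isPGroup_of_coprime_eq_one fun y hy hyp => ?_
    have hle : Subgroup.zpowers y ≤ M := Subgroup.zpowers_le.mpr hy
    have hn : ((Subgroup.zpowers y).subgroupOf M).Normal := by
      rw [Subgroup.normal_subgroupOf_iff_le_normalizer hle]
      intro a ha
      refine Subgroup.centralizer_le_normalizer _ (Subgroup.mem_centralizer_iff.mpr fun b hb => ?_)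
      exact (hab b (hle hb) a ha).eq
    have h1 := hcore _ (Subgroup.IsSubnormal.step _ M hle hM hn) (by rwa [Nat.card_zpowers])
    simpa using h1
  -- a `p`-group normal subgroup supplementing `⟨x⟩` is impossible
  have hpN : ∀ N : Subgroup G, N.Normal → IsPGroup p N → N ⊔ Subgroup.zpowers x = ⊤ → False := by
    intro N hN hNp htop
    have hp' := IsPGroup.to_sup_of_normal_left hNp
      (isPGroup_zpowers (p := p) (k := 1) (by rw [pow_one]; exact hx))
    rw [htop] at hp'
    exact hcent fun g => Subgroup.mem_centralizer_singleton_iff.mp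
      (commute_of_mem_pGroup hiso hp' (Subgroup.mem_top x) (Subgroup.mem_top g))
  -- proper `K⟨x⟩` centralises
  have L1 : ∀ K : Subgroup G, K.Normal → K ⊔ Subgroup.zpowers x ≠ ⊤ → ∀ k ∈ K, Commute k x := by
    intro K hK hne k hk
    set H := K ⊔ Subgroup.zpowers x with hH
    have hxH : x ∈ H := Subgroup.mem_sup_right (Subgroup.mem_zpowers x)
    have hKH : K ≤ H := le_sup_left
    set c := k * x * k⁻¹ * x⁻¹ with hc
    have hcK : c ∈ K := by
      simpa [hc, mul_assoc] using mul_mem hk (hK.conj_mem _ (inv_mem hk) x)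
    have hcO : (⟨c, hKH hcK⟩ : ↥H) ∈ Cfsg.pPrimeCore p ↥H := hmin H hxH hne ⟨k, hKH hk⟩
    set M := (Cfsg.pPrimeCore p ↥H ⊓ K.subgroupOf H).map H.subtype with hM
    have hMK : M ≤ K := by
      rintro _ ⟨z, hz, rfl⟩
      exact hz.2
    have hMn : (M.subgroupOf K).Normal := by
      refine ⟨fun a ha b => ?_⟩
      obtain ⟨z, hz, hza⟩ := ha
      refine ⟨⟨b, hKH b.2⟩ * z * ⟨b, hKH b.2⟩⁻¹, ?_, ?_⟩
      · exact (inferInstance : (Cfsg.pPrimeCore p ↥H ⊓ K.subgroupOf H).Normal).conj_mem z hz _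
      · simp only [Subgroup.coe_subtype] at hza ⊢
        simp [hza]
    have hMbot : M = ⊥ := by
      refine hcore M (Subgroup.IsSubnormal.step _ K hMK hK.isSubnormal hMn) ?_
      rw [hM, Cfsg.Agent.Cores.card_map_subtype]
      exact (Cfsg.Agent.Cores.coprime_card_pPrimeCore p).coprime_dvd_left
        (Subgroup.card_dvd_of_le inf_le_left)
    have hcM : c ∈ M := ⟨⟨c, hKH hcK⟩, ⟨hcO, hcK⟩, rfl⟩
    rw [hMbot, Subgroup.mem_bot] at hcM
    exact mul_inv_eq_iff_eq_mul.mp (mul_inv_eq_one.mp hcM)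
  -- normal subgroups containing all commutators with `x`
  have L2 : ∀ K : Subgroup G, K.Normal → (∀ g, g * x * g⁻¹ * x⁻¹ ∈ K) →
      K ⊔ Subgroup.zpowers x = ⊤ := by
    intro K hK hg
    by_contra hne
    refine hcent fun g => ?_
    have h1 : Commute (g * x * g⁻¹ * x⁻¹) x := L1 K hK hne _ (hg g)
    have h2 : Commute x (g * x * g⁻¹) := by
      have := (h1.mul_left (Commute.refl x)).symm
      simpa using this
    exact mul_inv_eq_iff_eq_mul.mp (hiso g h2)
  have hG' : ∀ a b : G, a * b * a⁻¹ * b⁻¹ ∈ commutator G := fun a b =>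
    Subgroup.commutator_mem_commutator (Subgroup.mem_top a) (Subgroup.mem_top b)
  have hD : commutator G ⊔ Subgroup.zpowers x = ⊤ := L2 _ inferInstance fun g => hG' g x
  have hDne : commutator G ≠ ⊥ := by
    intro h
    refine hcent fun g => ?_
    have := hG' g x
    rw [h, Subgroup.mem_bot] at this
    exact mul_inv_eq_iff_eq_mul.mp (mul_inv_eq_one.mp this)
  obtain ⟨N, hND, hNn, hNne, hNmin⟩ := Cfsg.Agent.Cores.exists_minimal_normal_le (commutator G) hDne
  haveI := hNn
  have hNx : N ⊔ Subgroup.zpowers x = ⊤ := by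
    by_contra hne
    have hc := L1 N hNn hne
    have hxC : x ∈ Subgroup.centralizer (N : Set G) :=
      Subgroup.mem_centralizer_iff.mpr fun n hn => (hc n hn).eq
    have hC := L2 (Subgroup.centralizer (N : Set G)) inferInstance fun g =>
      mul_mem ((inferInstance : (Subgroup.centralizer (N : Set G)).Normal).conj_mem x hxC g)
        (inv_mem hxC)
    rw [sup_eq_left.mpr (Subgroup.zpowers_le.mpr hxC)] at hC
    have hNc : ∀ n ∈ N, ∀ g : G, Commute n g := fun n hn g =>
      Subgroup.mem_centralizer_iff.mp (hC ▸ Subgroup.mem_top g) n hn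
    have hNp : IsPGroup p N := habp N hNn.isSubnormal fun a ha b _ => hNc a ha b
    set f := QuotientGroup.mk' N with hf
    set K := (Cfsg.pPrimeCore p (G ⧸ N)).comap f with hK
    have hKc : ∀ g, g * x * g⁻¹ * x⁻¹ ∈ K := fun g => hquot N hNne (QuotientGroup.mk g)
    have hKx := L2 K inferInstance hKc
    let P : Sylow p ↥K := default
    have hPN : ∀ z ∈ (P : Subgroup ↥K), (z : G) ∈ N := by
      intro z hz
      rw [← QuotientGroup.eq_one_iff]
      obtain ⟨k, hk⟩ := P.isPGroup' ⟨z, hz⟩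
      have hzk : z ^ p ^ k = 1 := by simpa using congrArg Subtype.val hk
      refine orderOf_eq_one_iff.mp (Nat.eq_one_of_dvd_coprimes
        ((Cfsg.Agent.Cores.coprime_card_pPrimeCore (G := G ⧸ N) p).pow_right k) ?_ ?_)
      · have hzO : f (z : G) ∈ Cfsg.pPrimeCore p (G ⧸ N) := z.2
        simpa [hf] using orderOf_dvd_natCard (⟨f z, hzO⟩ : Cfsg.pPrimeCore p (G ⧸ N))
      · refine orderOf_dvd_of_pow_eq_one ?_
        have h := congrArg (fun a : ↥K => f (a : G)) hzk
        simpa [hf] using h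
    have hPle : Subgroup.normalizer ((P : Subgroup ↥K) : Set ↥K) ≤
        Subgroup.centralizer ((P : Subgroup ↥K) : Set ↥K) := fun z _ =>
      Subgroup.mem_centralizer_iff.mpr fun a ha => Subtype.ext (hNc _ (hPN a ha) _).eq
    have hcompl := MonoidHom.ker_transferSylow_isComplement' P hPle
    set R := (MonoidHom.transferSylow P hPle).ker with hR
    have hRc : (Nat.card R).Coprime p := by
      rw [← hcompl.index_eq_card]
      exact ((hp.coprime_iff_not_dvd).mpr P.not_dvd_index).symm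
    have hR1 : R = ⊥ := by
      refine (Subgroup.map_eq_bot_iff_of_injective _ K.subtype_injective).mp ?_
      refine hcore _ (Subgroup.IsSubnormal.trans' (Subgroup.Normal.isSubnormal ?_)
        (Subgroup.Normal.isSubnormal inferInstance)) ?_
      · exact MonoidHom.normal_ker _
      · rwa [Cfsg.Agent.Cores.card_map_subtype]
    rw [hR1, Subgroup.isComplement'_bot_left] at hcompl
    have hKN : K ≤ N := fun z hz => hPN ⟨z, hz⟩ (hcompl ▸ Subgroup.mem_top _)
    have hGx : (⊤ : Subgroup G) ≤ Subgroup.centralizer ({x} : Set G) := by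
      rw [← hKx]
      exact sup_le (fun z hz => Subgroup.mem_centralizer_singleton_iff.mpr (hNc z (hKN hz) x).eq)
        (Subgroup.zpowers_le.mpr (Subgroup.mem_centralizer_singleton_iff.mpr rfl))
    exact hcent fun g => Subgroup.mem_centralizer_singleton_iff.mp (hGx (Subgroup.mem_top g))
  have hDN : commutator G ≤ N := by
    refine Subgroup.commutator_le.mpr fun a _ b _ => ?_
    set f := QuotientGroup.mk' N with hf
    have himg : ∀ c : G, f c ∈ Subgroup.zpowers (f x) := by
      intro c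
      have : c ∈ N ⊔ Subgroup.zpowers x := hNx ▸ Subgroup.mem_top c
      have hle : N ⊔ Subgroup.zpowers x ≤ (Subgroup.zpowers (f x)).comap f := by
        refine sup_le (fun n hn => ?_) (Subgroup.zpowers_le.mpr (Subgroup.mem_zpowers _))
        rw [Subgroup.mem_comap, show f n = 1 from (QuotientGroup.eq_one_iff n).mpr hn]
        exact one_mem _
      exact hle this
    obtain ⟨i, hi⟩ := Subgroup.mem_zpowers_iff.mp (himg a)
    obtain ⟨j, hj⟩ := Subgroup.mem_zpowers_iff.mp (himg b)
    rw [← QuotientGroup.eq_one_iff (N := N)]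
    have hab : Commute (f a) (f b) := hi ▸ hj ▸ Commute.zpow_zpow_self (f x) i j
    simpa [hf, commutatorElement_def] using (commutatorElement_eq_one_iff_commute.mpr hab)
  have hDeq : commutator G = N := le_antisymm hDN hND
  have hnab : ¬ IsMulCommutative N := fun h => hpN N hNn (habp N hNn.isSubnormal fun a ha b hb =>
    congrArg Subtype.val (h.is_comm.comm (⟨a, ha⟩ : N) ⟨b, hb⟩)) hNx
  refine ⟨?_, hDeq ▸ hnab, hD⟩
  rw [hDeq]
  haveI : Nontrivial N := (Subgroup.nontrivial_iff_ne_bot N).mpr hNne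
  refine ⟨fun M hM => or_iff_not_imp_left.mpr fun hMb => ?_⟩
  obtain ⟨M0, hM0M, hM0n, hM0b, hM0min⟩ :=
    @Cfsg.Agent.Cores.exists_minimal_normal_le ↥N _ _ M hM hMb
  suffices h : M0.map N.subtype = N by
    refine top_le_iff.mp (le_trans (le_of_eq ?_) hM0M)
    refine Subgroup.map_injective N.subtype_injective ?_
    rw [h, ← MonoidHom.range_eq_map, Subgroup.range_subtype]
  set M1 := M0.map N.subtype with hM1
  have hM1N : M1 ≤ N := Subgroup.map_subtype_le _
  have hM1n : ∀ n ∈ N, ∀ m ∈ M1, n * m * n⁻¹ ∈ M1 := by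
    rintro n hn _ ⟨m, hm, rfl⟩
    exact ⟨⟨n, hn⟩ * m * ⟨n, hn⟩⁻¹, hM0n.conj_mem m hm _, rfl⟩
  have hM1min : ∀ L : Subgroup G, L ≤ M1 → (∀ n ∈ N, ∀ l ∈ L, n * l * n⁻¹ ∈ L) →
      L = ⊥ ∨ L = M1 := by
    intro L hL hLn
    have hLe : (L.subgroupOf N).map N.subtype = L := Subgroup.map_subgroupOf_eq_of_le (hL.trans hM1N)
    rcases hM0min (L.subgroupOf N) ⟨fun l hl n => hLn n n.2 l hl⟩ (fun l hl => by
      obtain ⟨m, hm, hml⟩ := hL (show (l : G) ∈ L from hl)
      exact Subtype.ext hml ▸ hm) with h | h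
    · left; rw [← hLe, h, Subgroup.map_bot]
    · right; rw [← hLe, h]
  have hM1b : M1 ≠ ⊥ := fun h =>
    hM0b ((Subgroup.map_eq_bot_iff_of_injective _ N.subtype_injective).mp h)
  have hM1sn : M1.IsSubnormal := Subgroup.IsSubnormal.trans' hM0n.isSubnormal hNn.isSubnormal
  by_cases hxM : x ∈ Subgroup.normalizer (M1 : Set G)
  · have hn : M1.Normal := by
      have htop : (⊤ : Subgroup G) ≤ Subgroup.normalizer (M1 : Set G) := by
        rw [← hNx]
        refine sup_le (fun n hn => ?_) (Subgroup.zpowers_le.mpr hxM)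
        rw [Subgroup.mem_normalizer_iff]
        refine fun m => ⟨hM1n n hn m, fun hm => ?_⟩
        simpa [mul_assoc] using hM1n n⁻¹ (inv_mem hn) _ hm
      exact Subgroup.normalizer_eq_top_iff.mp (top_le_iff.mp htop)
    exact (hNmin M1 hn hM1N).resolve_left hM1b
  exfalso
  have hcomm1 : ∀ i : ℤ, ¬ (p : ℤ) ∣ i → ∀ a ∈ M1, ∀ b ∈ M1, Commute a (x ^ i * b * (x ^ i)⁻¹) := by
    intro i hi a ha b hb
    set V := M1.map (MulAut.conj (x ^ i)).toMonoidHom with hV
    have hVn : ∀ n ∈ N, ∀ l ∈ V, n * l * n⁻¹ ∈ V := by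
      rintro n hn _ ⟨l, hl, rfl⟩
      refine ⟨((x ^ i)⁻¹ * n * x ^ i) * l * ((x ^ i)⁻¹ * n * x ^ i)⁻¹,
        hM1n _ (by simpa using hNn.conj_mem n hn (x ^ i)⁻¹) l hl, ?_⟩
      show x ^ i * ((x ^ i)⁻¹ * n * x ^ i * l * ((x ^ i)⁻¹ * n * x ^ i)⁻¹) * (x ^ i)⁻¹ =
        n * (x ^ i * l * (x ^ i)⁻¹) * n⁻¹
      group
    have hint : M1 ⊓ V = ⊥ := by
      refine (hM1min _ inf_le_left fun n hn l hl => ⟨hM1n n hn l hl.1, hVn n hn l hl.2⟩).resolve_right
        fun h => hxM ?_
      have hxi : x ^ i ∈ Subgroup.normalizer (M1 : Set G) := by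
        have hle : M1 ≤ V := inf_eq_left.mp h
        have heq : M1 = V := Subgroup.eq_of_le_of_card_ge hle
          (le_of_eq (Subgroup.card_map_of_injective (MulAut.conj (x ^ i)).injective))
        rw [Subgroup.mem_normalizer_iff]
        intro m
        constructor
        · intro hm
          have hmem : x ^ i * m * (x ^ i)⁻¹ ∈ V := ⟨m, hm, rfl⟩
          rwa [← heq] at hmem
        · intro hm
          rw [heq] at hm
          obtain ⟨l, hl, hlm⟩ := hm
          have : l = m := (MulAut.conj (x ^ i)).injective hlm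
          exact this ▸ hl
      obtain ⟨u, v, huv⟩ :=
        ((Prime.coprime_iff_not_dvd (Nat.prime_iff_prime_int.mp hp)).mpr hi).symm
      have hxp : x ^ (p : ℤ) = 1 := by rw [zpow_natCast, ← hx, pow_orderOf_eq_one]
      have : x = (x ^ i) ^ u := by
        conv_lhs => rw [← zpow_one x, ← huv, zpow_add, mul_comm v, zpow_mul x (p : ℤ) v, hxp,
          one_zpow, mul_one, mul_comm u, zpow_mul]
      rw [this]
      exact Subgroup.zpow_mem _ hxi u
    have hc1 : a * (x ^ i * b * (x ^ i)⁻¹) * a⁻¹ * (x ^ i * b * (x ^ i)⁻¹)⁻¹ ∈ M1 ⊓ V := by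
      have hbV : x ^ i * b * (x ^ i)⁻¹ ∈ V := ⟨b, hb, rfl⟩
      refine ⟨?_, V.mul_mem (hVn a (hM1N ha) _ hbV) (V.inv_mem hbV)⟩
      have h2 : (x ^ i * b * (x ^ i)⁻¹) * a⁻¹ * (x ^ i * b * (x ^ i)⁻¹)⁻¹ ∈ M1 :=
        hM1n _ (by
          obtain ⟨b', hb', h'⟩ := hbV
          rw [← h']
          exact (Subgroup.Normal.map_conj_eq N (x ^ i)) ▸ ⟨b', hM1N hb', rfl⟩) _ (inv_mem ha)
      simpa [mul_assoc] using mul_mem ha h2
    rw [hint, Subgroup.mem_bot] at hc1
    exact mul_inv_eq_iff_eq_mul.mp (mul_inv_eq_one.mp hc1)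
  have hpdvd : p ∣ Nat.card M1 := by
    by_contra h
    exact hM1b (hcore M1 hM1sn ((hp.coprime_iff_not_dvd).mpr h).symm)
  obtain ⟨⟨m, hm⟩, hmo⟩ := exists_prime_orderOf_dvd_card' p hpdvd
  have hmp : m ^ p = 1 := by
    have := pow_orderOf_eq_one (⟨m, hm⟩ : M1)
    rw [hmo] at this
    simpa using congrArg Subtype.val this
  set u : ℕ → G := fun i => x ^ i * m * (x ^ i)⁻¹ with hu
  have hxp : x ^ p = 1 := by rw [← hx]; exact pow_orderOf_eq_one x
  have hucomm : ∀ i j : ℕ, i ≤ j → Commute (u i) (u j) := by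
    intro i j hij
    obtain ⟨d, rfl⟩ := Nat.exists_eq_add_of_le hij
    by_cases hd : p ∣ d
    · obtain ⟨e, rfl⟩ := hd
      have : u (i + p * e) = u i := by simp [hu, pow_add, pow_mul, hxp]
      rw [this]
    · have h := hcomm1 (d : ℤ) (by exact_mod_cast hd) m hm m hm
      have h' : Commute (x ^ i * m * (x ^ i)⁻¹)
          (x ^ i * (x ^ (d : ℤ) * m * (x ^ (d : ℤ))⁻¹) * (x ^ i)⁻¹) := h.map (MulAut.conj (x ^ i))
      rw [zpow_natCast] at h'
      simpa [hu, pow_add, mul_assoc] using h'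
  set A := Subgroup.closure (Set.range u) with hA
  haveI hAc : IsMulCommutative A := Subgroup.isMulCommutative_closure (by
    rintro _ ⟨i, rfl⟩ _ ⟨j, rfl⟩
    rcases le_total i j with h | h
    · exact (hucomm i j h).eq
    · exact (hucomm j i h).eq.symm)
  set w : ℕ → A := fun i => ⟨u i, Subgroup.subset_closure ⟨i, rfl⟩⟩ with hw
  have hshift : ∀ (e : ℕ → ℕ) (n : ℕ), x * ((∏ i ∈ Finset.range n, w i ^ e i : A) : G) * x⁻¹ =
      ((∏ i ∈ Finset.range n, w (i + 1) ^ e i : A) : G) := by
    intro e n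
    induction n with
    | zero => simp
    | succ n ih =>
      rw [Finset.prod_range_succ, Finset.prod_range_succ, Subgroup.coe_mul, Subgroup.coe_mul, ← ih]
      have : x * (u n) ^ e n * x⁻¹ = (u (n + 1)) ^ e n := by
        rw [← conj_pow]
        congr 1
        simp [hu, pow_succ', mul_assoc]
      simp only [hw, Subgroup.coe_pow]
      rw [← this]
      group
  set g : A := ∏ i ∈ Finset.range p, w i ^ i with hg
  set c : A := ∏ i ∈ Finset.range p, w i with hc
  have hwp : w p = w 0 := Subtype.ext (by simp [hw, hu, hxp])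
  have hc' : ∏ i ∈ Finset.range p, w (i + 1) = c := by
    have h1 := Finset.prod_range_succ w p
    rw [Finset.prod_range_succ', hwp, ← hc] at h1
    exact mul_right_cancel h1
  have hg' : (∏ i ∈ Finset.range p, w (i + 1) ^ i) * c = g := by
    have h1 : ∏ i ∈ Finset.range p, w (i + 1) ^ (i + 1) = g := by
      have h2 := Finset.prod_range_succ (fun i => w i ^ i) p
      rw [Finset.prod_range_succ', pow_zero, mul_one, ← hg] at h2
      rw [h2]
      have : w p ^ p = 1 := Subtype.ext (by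
        simp [hw, hu, hxp, hmp])
      rw [this, mul_one]
    rw [← h1, ← hc', ← Finset.prod_mul_distrib]
    exact Finset.prod_congr rfl fun i _ => (pow_succ _ _).symm
  have hxc : x * (c : G) * x⁻¹ = c := by
    have h1 := hshift (fun _ => 1) p
    simp only [pow_one] at h1
    rw [← hc] at h1
    rw [h1, hc']
  have hxg : x * (g : G) * x⁻¹ = (g : G) * (c : G)⁻¹ := by
    have h1 := hshift (fun i => i) p
    rw [← hg] at h1
    rw [h1, eq_mul_inv_iff_mul_eq, ← Subgroup.coe_mul, hg']
  have hconj : (g : G) * x * (g : G)⁻¹ = (c : G) * x := by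
    have hgc : (g : G) * c = (c : G) * g := congrArg Subtype.val (mul_comm g c)
    calc (g : G) * x * (g : G)⁻¹ = (g : G) * (x * (g : G) * x⁻¹)⁻¹ * x := by group
      _ = (g : G) * c * (g : G)⁻¹ * x := by rw [hxg]; group
      _ = (c : G) * x := by rw [hgc, mul_inv_cancel_right]
  have hc1 : (c : G) = 1 := by
    have hxc' : Commute x (c : G) := mul_inv_eq_iff_eq_mul.mp hxc
    have h1 := hiso g (by rw [hconj]; exact hxc'.mul_right (Commute.refl x))
    rw [hconj] at h1
    exact mul_eq_right.mp h1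
  have hmZ : ∀ b ∈ M1, Commute m b := by
    intro b hb
    obtain ⟨q, hq⟩ := Nat.exists_eq_succ_of_ne_zero hp.ne_zero
    have h1 : ((∏ i ∈ Finset.range q, w (i + 1) : A) : G) * m = 1 := by
      rw [← hc1, hc, hq, Finset.prod_range_succ', Subgroup.coe_mul]
      simp [hw, hu]
    have h2 : ∀ n ≤ q, Commute b ((∏ i ∈ Finset.range n, w (i + 1) : A) : G) := by
      intro n hn
      induction n with
      | zero => simp
      | succ n ih =>
        rw [Finset.prod_range_succ, Subgroup.coe_mul]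
        refine (ih (by omega)).mul_right ?_
        have h3 := hcomm1 ((n + 1 : ℕ) : ℤ) (by
          intro hd
          have hd' : p ∣ n + 1 := by exact_mod_cast hd
          have := Nat.le_of_dvd (by omega) hd'
          omega) b hb m hm
        rw [zpow_natCast] at h3
        simpa [hw, hu] using h3
    have h3 : m = (((∏ i ∈ Finset.range q, w (i + 1) : A) : G))⁻¹ := eq_inv_of_mul_eq_one_right h1
    rw [h3]
    exact ((h2 q le_rfl).inv_right).symm
  have hab : ∀ a ∈ M1, ∀ b ∈ M1, Commute a b := by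
    let Z := M1 ⊓ Subgroup.centralizer (M1 : Set G)
    have hZn : ∀ n ∈ N, ∀ l ∈ Z, n * l * n⁻¹ ∈ Z := by
      intro n hn l hl
      refine ⟨hM1n n hn l hl.1, Subgroup.mem_centralizer_iff.mpr fun b hb => ?_⟩
      have h1 := Subgroup.mem_centralizer_iff.mp hl.2 (n⁻¹ * b * n)
        (by simpa using hM1n n⁻¹ (inv_mem hn) b hb)
      calc b * (n * l * n⁻¹) = n * (n⁻¹ * b * n * l) * n⁻¹ := by group
        _ = n * (l * (n⁻¹ * b * n)) * n⁻¹ := by rw [h1]
        _ = n * l * n⁻¹ * b := by group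
    have hm1 : m ≠ 1 := by
      rintro rfl
      rw [← Subgroup.orderOf_coe, orderOf_one] at hmo
      exact hp.ne_one hmo.symm
    rcases hM1min Z inf_le_left hZn with h | h
    · have : m ∈ Z := ⟨hm, Subgroup.mem_centralizer_iff.mpr fun b hb => (hmZ b hb).eq.symm⟩
      rw [h, Subgroup.mem_bot] at this
      exact absurd this hm1
    · intro a ha b hb
      exact (Subgroup.mem_centralizer_iff.mp ((h.ge ha).2) b hb).symm
  have hle : M1 ≤ N ⊓ Cfsg.pCore p G :=
    le_inf hM1N (Cfsg.Agent.Cores.le_pCore_of_isSubnormal hM1sn (habp M1 hM1sn hab))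
  rcases hNmin (N ⊓ Cfsg.pCore p G) inferInstance inf_le_left with h | h
  · exact hM1b (le_bot_iff.mp (h ▸ hle))
  · exact hpN N hNn ((Cfsg.Agent.Cores.isPGroup_pCore p G).to_le (inf_eq_left.mp h)) hNx

end Cfsg.Agent.Isolated
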